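import Cfsg.Agent.ThreeTrans.Y332.Word
import Cfsg.Agent.ThreeTrans.Y332.Data

/-!
# Identities of words in the Coxeter group of the graph

`wx`, `wy` are the Coxeter elements of `b, …, h` and of `c, …, h`, and `wx'`, `wy'` their images under
the symmetry of the graph; `t j` are translations of the affine group on `b, …, f, h, i`.
-/

set_option autoImplicit false
set_option maxRecDepth 100000

namespace Cfsg.Agent.ThreeTrans.Y332

/-- A repeated word. -/
def pw (w : List ℕ) (k : ℕ) : List ℕ := (List.replicate k w).flatten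

theorem ev_pw {G : Type*} [Group G] (n : ℕ → G) (w : List ℕ) (k : ℕ) : ev n (pw w k) = ev n w ^ k := by
  induction k with
  | zero => simp [pw]
  | succ k ih => rw [pw, List.replicate_succ, List.flatten_cons, ev_append, ← pw, ih, pow_succ']

/-- `b c d e f g h`. -/
def wx : List ℕ := [1, 2, 3, 4, 5, 6, 7]
/-- `c d e f g h`. -/
def wy : List ℕ := [2, 3, 4, 5, 6, 7]
/-- `f e d c b a h`. -/
def wx' : List ℕ := [5, 4, 3, 2, 1, 0, 7]
/-- `e d c b a h`. -/
def wy' : List ℕ := [4, 3, 2, 1, 0, 7]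
/-- The spider. -/
def ws : List ℕ := [3, 2, 1, 3, 4, 5, 3, 7, 8]
/-- The reflection in the sum of the roots `a, …, f`. -/
def wv : List ℕ := [5, 4, 3, 2, 1, 0, 1, 2, 3, 4, 5]
/-- The reflection in the highest root of the diagram `b, c, d, e, f, h`. -/
def wθ : List ℕ := [7, 3, 4, 2, 3, 7, 5, 4, 3, 2, 1, 2, 3, 4, 5, 7, 3, 2, 4, 3, 7]
/-- The translation by the highest root. -/
def t0 : List ℕ := 8 :: wθ

/-- Conjugators taking the highest root to the simple roots. -/
def cj : ℕ → List ℕ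
  | 1 => [2, 3, 7, 4, 5, 3, 4, 2, 3, 7]
  | 2 => [3, 7, 4, 5, 3, 4, 1, 2, 3, 7]
  | 3 => [7, 4, 5, 2, 3, 4, 1, 2, 3, 7]
  | 4 => [3, 7, 5, 2, 3, 4, 1, 2, 3, 7]
  | 5 => [4, 3, 7, 2, 3, 4, 1, 2, 3, 7]
  | _ => [3, 4, 5, 2, 3, 4, 1, 2, 3, 7]

/-- The translation by a simple root. -/
def t (j : ℕ) : List ℕ := cj j ++ t0 ++ (cj j).reverse

theorem u1 : equiv Data.u1p Data.u1q (pw wx 9) (pw (1 :: pw wy 5) 3) Data.u1t = true := by
  decide +kernel
theorem u2 : equiv Data.u2p Data.u2q (2 :: pw wx 9) (pw wx 9 ++ [2]) Data.u2t = true := by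
  decide +kernel
theorem u3 : equiv Data.u3p Data.u3q wθ (wv ++ pw wx' 9 ++ pw wy' 5 ++ wv) Data.u3t = true := by
  decide +kernel
theorem u4 : equiv Data.u4p Data.u4q (wv ++ [8]) (8 :: wv) Data.u4t = true := by decide +kernel
theorem u5 : equiv Data.u5p Data.u5q (wv ++ wv) [] Data.u5t = true := by decide +kernel

theorem z0 : equiv Data.z0p Data.z0q (pw ws 10 ++ pw (t 1) 2 ++ pw (t 2) 7 ++ pw (t 4) 5 ++ t 5 ++
    pw (t 3) 9 ++ pw (t 7) 3) [] Data.z0t = true := by decide +kernel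
theorem z1 : equiv Data.z1p Data.z1q (1 :: pw ws 10 ++ [1] ++ pw (t 1) 3) (pw ws 10) Data.z1t = true := by
  decide +kernel
theorem z2 : equiv Data.z2p Data.z2q (2 :: pw ws 10 ++ [2]) (pw ws 10 ++ pw (t 2) 3) Data.z2t = true := by
  decide +kernel
theorem z3 : equiv Data.z3p Data.z3q (3 :: pw ws 10 ++ [3]) (pw ws 10 ++ pw (t 3) 3) Data.z3t = true := by
  decide +kernel
theorem z4 : equiv Data.z4p Data.z4q (4 :: pw ws 10 ++ [4]) (pw ws 10) Data.z4t = true := by
  decide +kernel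
theorem z5 : equiv Data.z5p Data.z5q (5 :: pw ws 10 ++ [5] ++ pw (t 5) 3) (pw ws 10) Data.z5t = true := by
  decide +kernel
theorem z8 : equiv Data.z8p Data.z8q (8 :: pw ws 10 ++ [8]) (pw ws 10 ++ pw t0 3) Data.z8t = true := by
  decide +kernel

theorem c12 : equiv Data.c12p Data.c12q (t 1 ++ t 2) (t 2 ++ t 1) Data.c12t = true := by decide +kernel
theorem c14 : equiv Data.c14p Data.c14q (t 1 ++ t 4) (t 4 ++ t 1) Data.c14t = true := by decide +kernel
theorem c15 : equiv Data.c15p Data.c15q (t 1 ++ t 5) (t 5 ++ t 1) Data.c15t = true := by decide +kernel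
theorem c24 : equiv Data.c24p Data.c24q (t 2 ++ t 4) (t 4 ++ t 2) Data.c24t = true := by decide +kernel
theorem c25 : equiv Data.c25p Data.c25q (t 2 ++ t 5) (t 5 ++ t 2) Data.c25t = true := by decide +kernel
theorem c45 : equiv Data.c45p Data.c45q (t 4 ++ t 5) (t 5 ++ t 4) Data.c45t = true := by decide +kernel

end Cfsg.Agent.ThreeTrans.Y332
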