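import Cfsg.Agent.ThreeTrans.Y332.Act
import Cfsg.Agent.ThreeTrans.Y332.Words
import Cfsg.Agent.ThreeTrans.CountM22

/-!
# Nine members in type M(22) with the pattern of the graph, and their relations

`exists_cfg`: there are nine members `a, …, i` commuting as prescribed by the graph. `pow_x`, `pow_x'`
and `pow_spider`: they satisfy the three further relations of the presentation of Fi₂₂.
-/

set_option autoImplicit false

open Cfsg Cfsg.Agent.Classical Cfsg.Agent.Classical.Herm Module

universe u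

namespace Cfsg.Agent.ThreeTrans.Y332

open UModel

variable {G : Type u} [Group G] {D : Set G}

/-- Members with the pattern of the graph. -/
structure Cfg (D : Set G) (n : ℕ → G) : Prop where
  mem : ∀ x < 9, n x ∈ D
  comm : ∀ x < 9, ∀ y < 9, (Commute (n x) (n y) ↔ adj x y = false)

/-- The symmetry of the graph. -/
def mir : ℕ → ℕ
  | 0 => 6
  | 1 => 5
  | 2 => 4
  | 4 => 2
  | 5 => 1
  | 6 => 0
  | x => x

theorem mir_lt : ∀ x < 9, mir x < 9 := by decide

theorem adj_mir : ∀ x < 9, ∀ y < 9, adj (mir x) (mir y) = adj x y := by decide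

theorem Cfg.mirror {n : ℕ → G} (hn : Cfg D n) : Cfg D (n ∘ mir) :=
  ⟨fun x hx => hn.mem _ (mir_lt x hx), fun x hx y hy => by
    rw [Function.comp, Function.comp, hn.comm _ (mir_lt x hx) _ (mir_lt y hy), adj_mir x hx y hy]⟩

theorem ev_map (n : ℕ → G) (w : List ℕ) : ev n (w.map mir) = ev (n ∘ mir) w := by
  simp [ev, List.map_map]

theorem separated : ∀ x < 9, ∀ y < 9, x = y ∨ ∃ z < 9, adj x z ≠ adj y z := by decide

variable {n : ℕ → G}

theorem Cfg.inj (hn : Cfg D n) {x y : ℕ} (hx : x < 9) (hy : y < 9) (h : n x = n y) : x = y := by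
  rcases separated x hx y hy with e | ⟨z, hz, hne⟩
  · exact e
  · refine absurd ?_ hne
    have e1 := hn.comm x hx z hz
    rw [h, hn.comm y hy z hz] at e1
    cases hA : adj x z <;> cases hB : adj y z <;> simp_all

theorem Cfg.dperp_mem (hn : Cfg D n) {x y : ℕ} (hx : x < 9) (hy : y < 9) (hxy : adj x y = false)
    (hne : x ≠ y) : n y ∈ dperp D (n x) :=
  ⟨hn.mem y hy, fun h => hne (hn.inj hy hx h).symm, (hn.comm x hx y hy).2 hxy⟩

theorem Cfg.rels (hD : IsThreeTranspositionGroup D) (hn : Cfg D n) : Rels n :=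
  ⟨fun x hx => mul_self hD.1 (hn.mem x hx),
    fun x hx y hy h => braid hD.1 (hn.mem x hx) (hn.mem y hy) fun e => by
      rw [(hn.comm x hx y hy).1 e] at h; simp at h,
    fun x hx y hy h => (hn.comm x hx y hy).2 h⟩

theorem ev_reverse (hr : Rels n) {w : List ℕ} (hw : ∀ x ∈ w, x < 9) : ev n w.reverse = (ev n w)⁻¹ := by
  induction w with
  | nil => simp
  | cons x w ih =>
    simp only [List.mem_cons, forall_eq_or_imp] at hw
    rw [List.reverse_cons, ev_append, ih hw.2, ev_cons, ev_cons, ev_nil, mul_one, mul_inv_rev,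
      inv_eq_of_mul_eq_one_right (hr.sq x hw.1)]

theorem cube_t_of (hr : Rels n) (h0 : ev n t0 ^ 3 = 1) (j : ℕ) : ev n (t j) ^ 3 = 1 := by
  have hlt : ∀ x ∈ cj j, x < 9 := by
    unfold cj
    split <;> decide
  rw [t, ev_append, ev_append, ev_reverse hr hlt, conj_pow, h0, mul_one, mul_inv_cancel]

/-- The cube of the tenth power of the spider. -/
theorem cube_spider (hr : Rels n) (h3 : ∀ j, ev n (t j) ^ 3 = 1) :
    ev n (pw ws 10) * ev n (pw ws 10) * ev n (pw ws 10) = 1 := by
  set z := ev n (pw ws 10) with hz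
  have hz0 := ev_eq hr z0
  simp only [ev_append, ev_nil, ev_pw] at hz0
  rw [← ev_pw, ← hz] at hz0
  have e9 : ev n (t 3) ^ 9 = 1 := by rw [show (9 : ℕ) = 3 * 3 from rfl, pow_mul, h3, one_pow]
  rw [e9, h3, mul_one, mul_one] at hz0
  have hcomm : ∀ {i j}, ev n (t i ++ t j) = ev n (t j ++ t i) → Commute (ev n (t i)) (ev n (t j)) :=
    fun h => by rw [ev_append, ev_append] at h; exact h
  have k12 := hcomm (ev_eq hr c12); have k14 := hcomm (ev_eq hr c14)
  have k15 := hcomm (ev_eq hr c15); have k24 := hcomm (ev_eq hr c24)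
  have k25 := hcomm (ev_eq hr c25); have k45 := hcomm (ev_eq hr c45)
  set A := ev n (t 1) ^ 2
  set B := ev n (t 2) ^ 7
  set C := ev n (t 4) ^ 5
  set E := ev n (t 5)
  have hzz : z = (A * B * C * E)⁻¹ := eq_inv_of_mul_eq_one_left (by
    rw [← hz0]; simp only [mul_assoc])
  have hAB : Commute A B := k12.pow_pow 2 7
  have hABC : Commute (A * B) C := (k14.pow_pow 2 5).mul_left (k24.pow_pow 7 5)
  have hABCE : Commute (A * B * C) E :=
    ((k15.pow_left 2).mul_left (k25.pow_left 7)).mul_left (k45.pow_left 5)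
  rw [← pow_two, ← pow_succ, hzz, inv_pow, hABCE.mul_pow, hABC.mul_pow, hAB.mul_pow]
  have hp3 : ∀ j k : ℕ, (ev n (t j) ^ k) ^ (2 + 1) = 1 := fun j k => by
    rw [← pow_mul, mul_comm, pow_mul, h3, one_pow]
  simp only [A, B, C, E, hp3, h3, mul_one, inv_one]

/-- The numbers of the chain `i, h, d, e, f, g`. -/
def six : Fin 6 → ℕ := ![8, 7, 3, 4, 5, 6]

theorem six_lt : ∀ j, six j < 9 := by decide

theorem six_adj : ∀ i j, adj (six i) (six j) = false ↔ ¬ (i.val + 1 = j.val ∨ j.val + 1 = i.val) := by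
  decide

theorem six_perp : ∀ j, adj 0 (six j) = false ∧ adj 1 (six j) = false ∧ 0 ≠ six j ∧
    (adj 2 (six j) = false ↔ j ≠ 2) := by
  decide

theorem six_ne_two : ∀ j, six j ≠ 2 := by decide

section Finite

variable [Finite G] (hD : IsThreeTranspositionGroup D) (h22 : IsOfTypeM22 G D)
include hD h22

omit h22 in
theorem sq_dperp (w : G) : ∀ e ∈ dperp D w, e * e = 1 := fun _ he => mul_self hD.1 he.1

/-- The nine members. -/
theorem exists_cfg : ∃ n : ℕ → G, Cfg D n := by
  obtain ⟨a, ha, b, hb, hab, -⟩ := id h22.2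
  obtain ⟨p, hp, hpp⟩ := exists_six_chain hD h22 ha hb hab
  obtain ⟨F, _, θ, -, hB, hmod⟩ := layer_model hD h22
  obtain ⟨tp, hM⟩ := hmod a ha
  have hpa : ∀ j, p j ∈ dperp D a := fun j => pairPerp_subset hD hab (hp j)
  obtain ⟨P, hP, hPp⟩ := exists_chain hB hM hpa fun i j => hpp i j
  obtain ⟨K, hK⟩ := exists_k2 hB hP
  set c := tp K with hc
  have hca : c ∈ dperp D a := tp_mem hM K
  have hcp : ∀ j, Commute (p j) c ↔ j ≠ 2 := fun j => by
    rw [← hPp j, hM.comm_iff, hK, form_k2 hB hP]
    split_ifs with h <;> simp [h]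
  have hcb : ¬ Commute b c := by
    intro hbc
    have hcW : c ∈ pairPerp D a b := ⟨hca.1, hca.2.2, hbc⟩
    have hq : ∀ i, ![c, p 2, p 1, p 0] i ∈ pairPerp D a b := by
      intro i; fin_cases i
      exacts [hcW, hp 2, hp 1, hp 0]
    have hqq : ∀ i j, Commute (![c, p 2, p 1, p 0] i) (![c, p 2, p 1, p 0] j) ↔ ¬ Adj i j := by
      intro i j
      fin_cases i <;> fin_cases j <;>
        simp [Adj, hcp _, Commute.symm_iff (a := c), hpp _ _, Commute.refl]
    have h45 : ¬ Commute (p 4) (p 5) := fun h => (hpp 4 5).1 h (Or.inl rfl)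
    refine h45 (no_four_two hD h22 ha hb hab hq hqq (hp 5) (hp 4) (fun i => ?_) fun i => ?_)
    · fin_cases i
      exacts [(hcp 5).2 (by decide), (hpp 5 2).2 (by simp [Adj]), (hpp 5 1).2 (by simp [Adj]),
        (hpp 5 0).2 (by simp [Adj])]
    · fin_cases i
      exacts [(hcp 4).2 (by decide), (hpp 4 2).2 (by simp [Adj]), (hpp 4 1).2 (by simp [Adj]),
        (hpp 4 0).2 (by simp [Adj])]
  refine ⟨fun x => [a, b, c, p 2, p 3, p 4, p 5, p 1, p 0].getD x 1, fun x hx => ?_, fun x hx y hy => ?_⟩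
  · interval_cases x
    exacts [ha, hb, hca.1, (hp 2).1, (hp 3).1, (hp 4).1, (hp 5).1, (hp 1).1, (hp 0).1]
  · have pa : ∀ j, Commute a (p j) := fun j => (hp j).2.1
    have pb : ∀ j, Commute b (p j) := fun j => (hp j).2.2
    interval_cases x <;> interval_cases y <;>
      simp [adj, hab, show ¬ Commute b a from fun h => hab h.symm, hcb, hca.2.2,
        hca.2.2.symm, pa, pb, fun j => (pa j).symm, fun j => (pb j).symm, hpp _ _, Adj, hcp _,
        Commute.symm_iff (a := c)]

variable (hn : Cfg D n)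
include hn

/-- The first relation, and the member moved only by `i`. -/
theorem pow_x : ev n (pw wx 9) = 1 ∧ ∃ r ∈ D, ev n (pw wy 5) = r ∧ ¬ Commute (n 8) r := by
  have hr := hn.rels hD
  have ha := hn.mem 0 (by norm_num)
  have hb := hn.mem 1 (by norm_num)
  have hab : ¬ Commute (n 0) (n 1) := fun h => by
    have := (hn.comm 0 (by norm_num) 1 (by norm_num)).1 h
    simp [adj] at this
  obtain ⟨F, _, θ, -, hB, hmod⟩ := layer_model hD h22
  obtain ⟨tp, hM⟩ := hmod (n 0) ha
  set p : Fin 6 → G := fun j => n (six j)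
  have hp : ∀ j, p j ∈ pairPerp D (n 0) (n 1) := fun j =>
    ⟨hn.mem _ (six_lt j), (hn.comm 0 (by norm_num) _ (six_lt j)).2 (six_perp j).1,
      (hn.comm 1 (by norm_num) _ (six_lt j)).2 (six_perp j).2.1⟩
  have hpp : ∀ i j, Commute (p i) (p j) ↔ ¬ Adj i j := fun i j =>
    (hn.comm _ (six_lt i) _ (six_lt j)).trans (six_adj i j)
  obtain ⟨P, hP, hPp⟩ := exists_chain hB hM (fun j => pairPerp_subset hD hab (hp j)) hpp
  obtain ⟨K0, hK0⟩ := exists_k0 hB hP
  obtain ⟨K2, hK2⟩ := exists_k2 hB hP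
  have hsq := sq_dperp hD (n 0)
  have hc : n 2 = tp K2 := by
    refine eq_tp hB hP hM (hn.dperp_mem (x := 0) (by norm_num) (by norm_num) rfl (by norm_num))
      (fun i => ?_) K2 fun i => by rw [hK2, form_k2 hB hP]
    rw [hPp i]
    exact (hn.comm 2 (by norm_num) _ (six_lt i)).trans (six_perp i).2.2.2
  set r := tp K0 with hrdef
  have hrm : r ∈ dperp D (n 0) := tp_mem hM K0
  have hrp : ∀ j, Commute (p j) r ↔ j ≠ 0 := fun j => by
    rw [← hPp j, hM.comm_iff, hK0, form_k0 hB hP]
    split_ifs with h <;> simp [h]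
  have hrc : Commute (n 2) r := by
    rw [hc, hM.comm_iff, hK2, hK0]
    simp [k2, form_k0 hB hP]
  have hrb : ¬ Commute (n 1) r := by
    intro hbr
    have hrW : r ∈ pairPerp D (n 0) (n 1) := ⟨hrm.1, hrm.2.2, hbr⟩
    have hq : ∀ i, ![r, p 0, p 1, p 2] i ∈ pairPerp D (n 0) (n 1) := by
      intro i; fin_cases i
      exacts [hrW, hp 0, hp 1, hp 2]
    have hqq : ∀ i j, Commute (![r, p 0, p 1, p 2] i) (![r, p 0, p 1, p 2] j) ↔ ¬ Adj i j := by
      intro i j
      fin_cases i <;> fin_cases j <;>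
        simp [Adj, hrp _, Commute.symm_iff (a := r), hpp _ _, Commute.refl]
    have h45 : ¬ Commute (p 4) (p 5) := fun h => (hpp 4 5).1 h (Or.inl rfl)
    refine h45 (no_four_two hD h22 ha hb hab hq hqq (hp 5) (hp 4) (fun i => ?_) fun i => ?_)
    · fin_cases i
      exacts [(hrp 5).2 (by decide), (hpp 5 0).2 (by simp [Adj]), (hpp 5 1).2 (by simp [Adj]),
        (hpp 5 2).2 (by simp [Adj])]
    · fin_cases i
      exacts [(hrp 4).2 (by decide), (hpp 4 0).2 (by simp [Adj]), (hpp 4 1).2 (by simp [Adj]),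
        (hpp 4 2).2 (by simp [Adj])]
  set y := ev n (pw wy 5) with hy
  -- `y` acts on the layer as `r`
  have hyl : y = ((List.replicate 5 [K2, P 2, P 3, P 4, P 5, P 1]).flatten.map tp).prod := by
    rw [hy, ev, List.map_flatten, List.map_replicate, pw, List.map_flatten, List.map_replicate]
    simp [wy, ← hc, hPp, p, six]
  have hact : ∀ v, y * tp v * y⁻¹ = r * tp v * r := by
    intro v
    rw [hyl, trs_conj hB hM hsq]
    refine (hM.conj K0 v _ ?_).symm
    show trs _ v.1 = _
    rw [trs_five hB hP K0 K2 hK0 hK2, trl_apply]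
  have hra : Commute r (n 0) := hrm.2.2.symm
  have hrr : r * r = 1 := mul_self hD.1 hrm.1
  have hya : Commute y (n 0) := by
    rw [hyl]
    refine Commute.list_prod_left _ _ fun e he => ?_
    obtain ⟨v, -, rfl⟩ := List.mem_map.1 he
    exact (tp_mem hM v : tp v ∈ dperp D (n 0)).2.2.symm
  have hF := m22Full hD h22
  have hcases := eq_one_or_eq_of_centralises hD h22.1 hF.data hF.links ha (c := r * y)
    (hra.mul_left hya) fun e he => by
      obtain ⟨v, rfl⟩ := exists_tp hM he
      show r * y * tp v = tp v * (r * y)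
      calc r * y * tp v = r * (y * tp v * y⁻¹) * y := by group
        _ = tp v * (r * y) := by rw [hact]; simp only [← mul_assoc, hrr, one_mul]
  have hx : ev n (pw wx 9) = (n 1 * y) ^ 3 := by
    rw [ev_eq hr u1, ev_pw, ev_cons, hy]
  have hxc : Commute (n 2) (ev n (pw wx 9)) := by
    have h := ev_eq hr u2
    simp only [ev_cons, ev_append, ev_nil, mul_one] at h
    exact h
  have hyr : y = r := by
    rcases hcases with h | h
    · rw [← inv_eq hD.1 hrm.1]; exact eq_inv_of_mul_eq_one_right h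
    exfalso
    have hy' : y = r * n 0 := by rw [← h, ← mul_assoc, hrr, one_mul]
    set A := n 0
    set B := n 1
    have hA := mul_self hD.1 ha
    have hBB := mul_self hD.1 hb
    have bab := braid hD.1 ha hb hab
    have brb := braid hD.1 hrm.1 hb fun e => hrb e.symm
    have hpow : (B * (r * A)) ^ 3 = r * A * B := by
      calc (B * (r * A)) ^ 3 = B * (r * A) * (B * (A * r)) * (B * (r * A)) := by
            rw [← hra.eq, pow_succ, pow_two]
        _ = B * r * (A * B * A) * (r * B * r) * A := by simp only [mul_assoc]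
        _ = B * r * (B * A * B) * (B * r * B) * A := by rw [bab, brb]
        _ = B * r * B * A * (B * B) * r * B * A := by simp only [mul_assoc]
        _ = (B * r * B) * (A * r) * B * A := by rw [hBB]; simp only [mul_assoc, one_mul]
        _ = (r * B * r) * (r * A) * B * A := by rw [brb, ← hra.eq]
        _ = r * B * ((r * r) * A) * B * A := by simp only [mul_assoc]
        _ = r * (B * A * B) * A := by rw [hrr, one_mul]; simp only [mul_assoc]
        _ = r * A * B := by
          rw [← bab]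
          simp only [mul_assoc, hA, mul_one]
    rw [hx, hy', hpow] at hxc
    have hcA : Commute (n 2) A := (hn.comm 2 (by norm_num) 0 (by norm_num)).2 rfl
    have h1 := (hcA.mul_right hrc).mul_right hxc
    rw [show A * r * (r * A * B) = B by simp only [← mul_assoc, mul_assoc A r r, hrr, mul_one, hA,
      one_mul]] at h1
    have := (hn.comm 2 (by norm_num) 1 (by norm_num)).1 h1
    simp [adj] at this
  refine ⟨?_, r, hrm.1, hyr, fun h => (hrp 0).1 h rfl⟩
  rw [hx, hyr]
  exact cube_of_not_commute hD.1 hb hrm.1 hrb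

/-- The second relation. -/
theorem pow_x' : ev n (pw wx' 9) = 1 ∧ ∃ r ∈ D, ev n (pw wy' 5) = r ∧ ¬ Commute (n 8) r := by
  obtain ⟨h1, r, hr, h2, h3⟩ := pow_x hD h22 hn.mirror
  have e : ∀ w k, (pw w k).map mir = pw (w.map mir) k := fun w k => by
    simp [pw, List.map_flatten]
  rw [← ev_map, e] at h1 h2
  exact ⟨h1, r, hr, h2, h3⟩

/-- `i` moves the member of the highest root. -/
theorem moved_theta : ev n wθ ∈ D ∧ ¬ Commute (n 8) (ev n wθ) := by
  have hr := hn.rels hD
  obtain ⟨h1, r, hrD, h2, h3⟩ := pow_x' hD h22 hn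
  set v := ev n wv
  have hvv : v * v = 1 := by
    have h := ev_eq hr u5
    rwa [ev_append, ev_nil] at h
  have hθ : ev n wθ = v * r * v⁻¹ := by
    rw [ev_eq hr u3, ev_append, ev_append, ev_append, h1, h2, mul_one,
      inv_eq_of_mul_eq_one_right hvv]
  have hθD : ev n wθ ∈ D := by rw [hθ]; exact hD.2.1 v r hrD
  have hvi : Commute v (n 8) := by
    have h := ev_eq hr u4
    simp only [ev_cons, ev_append, ev_nil, mul_one] at h
    exact h
  have hne : ¬ Commute (n 8) (ev n wθ) := by
    intro h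
    rw [hθ] at h
    refine h3 ((commute_conj v (n 8) r).1 ?_)
    rwa [show v * n 8 * v⁻¹ = n 8 by rw [hvi.eq, mul_inv_cancel_right]]
  exact ⟨hθD, hne⟩

/-- The translation by the highest root has order three. -/
theorem cube_t0 : ev n t0 ^ 3 = 1 := by
  rw [t0, ev_cons]
  exact cube_of_not_commute hD.1 (hn.mem 8 (by norm_num)) (moved_theta hD h22 hn).1
    (moved_theta hD h22 hn).2

/-- The translations have order three. -/
theorem cube_t (j : ℕ) : ev n (t j) ^ 3 = 1 :=
  cube_t_of (hn.rels hD) (cube_t0 hD h22 hn) j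

/-- The spider relation. -/
theorem pow_spider : ev n ws ^ 10 = 1 := by
  have hr := hn.rels hD
  set z := ev n (pw ws 10) with hz
  rw [← ev_pw, ← hz]
  have h3 := cube_t hD h22 hn
  have hz3 : z * z * z = 1 := cube_spider hr h3
  have hcm : ∀ {x : ℕ}, x < 9 → n x * z * n x = z → Commute z (n x) := fun {x} hx h => by
    show z * n x = n x * z
    conv_lhs => rw [← h]
    rw [mul_assoc, hr.sq x hx, mul_one]
  have c1 : Commute z (n 1) := hcm (by norm_num) (by
    have h := ev_eq hr z1
    simp only [ev_cons, ev_append, ev_nil, mul_one, ev_pw, h3, pow_one] at h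
    rwa [← ev_pw, ← hz] at h)
  have c2 : Commute z (n 2) := hcm (by norm_num) (by
    have h := ev_eq hr z2
    simp only [ev_cons, ev_append, ev_nil, mul_one, ev_pw, h3, pow_one] at h
    rwa [← ev_pw, ← hz] at h)
  have c3 : Commute z (n 3) := hcm (by norm_num) (by
    have h := ev_eq hr z3
    simp only [ev_cons, ev_append, ev_nil, mul_one, ev_pw, h3, pow_one] at h
    rwa [← ev_pw, ← hz] at h)
  have c4 : Commute z (n 4) := hcm (by norm_num) (by
    have h := ev_eq hr z4
    simp only [ev_cons, ev_append, ev_nil, mul_one] at h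
    rwa [← hz] at h)
  have c5 : Commute z (n 5) := hcm (by norm_num) (by
    have h := ev_eq hr z5
    simp only [ev_cons, ev_append, ev_nil, mul_one, ev_pw, h3, pow_one] at h
    rwa [← ev_pw, ← hz] at h)
  have c8 : Commute z (n 8) := hcm (by norm_num) (by
    have h := ev_eq hr z8
    simp only [ev_cons, ev_append, ev_nil, mul_one, ev_pw, cube_t0 hD h22 hn] at h
    rwa [← ev_pw, ← hz] at h)
  have hi := hn.mem 8 (by norm_num)
  have hF := m22Full hD h22
  have hzcl : z ∈ Subgroup.closure (dperp D (n 8)) := by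
    rw [← centralizer_eq_closure hD hF h22.1 hi]
    exact Subgroup.mem_centralizer_singleton_iff.2 c8.eq
  obtain ⟨F, _, θ, -, hB, hmod⟩ := layer_model hD h22
  obtain ⟨tp, hM⟩ := hmod (n 8) hi
  have hlt : ∀ j : Fin 6, j.val < 9 := fun j => by omega
  have hdec : ∀ i j : Fin 6, adj i.val j.val = false ↔ ¬ (i.val + 1 = j.val ∨ j.val + 1 = i.val) := by
    decide
  have hd8 : ∀ j : Fin 6, adj 8 j.val = false ∧ 8 ≠ j.val := by decide
  obtain ⟨P, hP, hPp⟩ := exists_chain hB hM
    (p := fun j : Fin 6 => n j.val)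
    (fun j => hn.dperp_mem (by norm_num) (hlt j) (hd8 j).1 (hd8 j).2)
    fun i j => (hn.comm _ (hlt i) _ (hlt j)).trans (hdec i j)
  have hall := acts_trivially hB hP (sq_dperp hD (n 8)) hM hzcl hz3 fun j hj => by
    rw [hPp j]
    fin_cases j
    exacts [absurd rfl hj, c1, c2, c3, c4, c5]
  rcases eq_one_or_eq_of_centralises hD h22.1 hF.data hF.links hi c8 hall with h | h
  · exact h
  · exfalso
    rw [h, mul_self hD.1 hi, one_mul] at hz3
    exact ne_one hD.1 hi hz3

end Finite

end Cfsg.Agent.ThreeTrans.Y332
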