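import Cfsg.Agent.ThreeTrans.Y332.Config
import Cfsg.Agent.ThreeTrans.PrimeM22
import Cfsg.Agent.CosetCert.Fi22Order.Main

/-!
# Every group of type M(22) is the presented Fischer group Fi₂₂
-/

set_option autoImplicit false

open Cfsg

universe u

namespace Cfsg.Agent.ThreeTrans.Y332

open Cfsg.Spor Cfsg.Spor.Fi22

/-- The number of a generator. -/
def num : Gen → ℕ
  | .a => 0
  | .b => 1
  | .c => 2
  | .d => 3
  | .e => 4
  | .f => 5
  | .g => 6
  | .h => 7
  | .i => 8

theorem num_lt (x : Gen) : num x < 9 := by cases x <;> decide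

theorem label_eq (x y : Gen) :
    coxLabel edges x y = if x = y then 1 else if adj (num x) (num y) then 3 else 2 := by
  cases x <;> cases y <;> rfl

/-- Every group of type M(22) is isomorphic to the presented Fi₂₂, the generators going to members. -/
theorem exists_iso {G : Type u} [Group G] [Finite G] {D : Set G} (hD : IsThreeTranspositionGroup D)
    (hcls : IsThreeTranspositionClass D) (h22 : IsOfTypeM22 G D) :
    ∃ e : Spor.Fi22 ≃* G, ∀ x : Gen, e (PresentedGroup.of x) ∈ D := by
  obtain ⟨n, hn⟩ := exists_cfg hD h22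
  have hr := hn.rels hD
  set f : Gen → G := fun x => n (num x) with hf
  have hrel : ∀ r ∈ coxRelators edges ∪ {r | r ∈ extra}, FreeGroup.lift f r = 1 := by
    rintro r (⟨x, -, y, -, rfl⟩ | hr')
    · rw [map_pow, map_mul, FreeGroup.lift_apply_of, FreeGroup.lift_apply_of, label_eq]
      split_ifs with hxy hadj
      · subst hxy
        rw [pow_one]
        exact hr.sq _ (num_lt x)
      · refine cube_of_not_commute hD.1 (hn.mem _ (num_lt x)) (hn.mem _ (num_lt y)) fun h => ?_
        rw [(hn.comm _ (num_lt x) _ (num_lt y)).1 h] at hadj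
        simp at hadj
      · have h := hr.comm _ (num_lt x) _ (num_lt y) (by simpa using hadj)
        show (n (num x) * n (num y)) ^ 2 = 1
        rw [h.mul_pow, pow_two, pow_two, hr.sq _ (num_lt x), one_mul, hr.sq _ (num_lt y)]
    · simp only [extra, List.mem_cons, List.not_mem_nil, or_false, Set.mem_ofPred_eq] at hr'
      rcases hr' with rfl | rfl | rfl
      · simp only [map_pow, map_mul, FreeGroup.lift_apply_of, hf, num]
        have := pow_spider hD h22 hn
        simpa [ev, ws, mul_assoc] using this
      · simp only [map_pow, map_mul, FreeGroup.lift_apply_of, hf, num]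
        have h := (pow_x' hD h22 hn).1
        rw [ev_pw] at h
        have hinv : ev n [7, 0, 1, 2, 3, 4, 5] ^ 9 = 1 := by
          rw [show [7, 0, 1, 2, 3, 4, 5] = wx'.reverse from rfl, ev_reverse hr (by decide), inv_pow, h,
            inv_one]
        have e : n 0 * n 1 * n 2 * n 3 * n 4 * n 5 * n 7 =
            n 7 * ev n [7, 0, 1, 2, 3, 4, 5] * (n 7)⁻¹ := by
          rw [inv_eq_of_mul_eq_one_right (hr.sq 7 (by norm_num))]
          simp only [ev_cons, ev_nil, mul_one, ← mul_assoc]
          rw [hr.sq 7 (by norm_num), one_mul]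
        rw [e, conj_pow, hinv, mul_one, mul_inv_cancel]
      · simp only [map_pow, map_mul, FreeGroup.lift_apply_of, hf, num]
        have := (pow_x hD h22 hn).1
        rw [ev_pw] at this
        simpa [ev, wx, mul_assoc] using this
  set φ := PresentedGroup.toGroup hrel
  have hφ : ∀ x, φ (PresentedGroup.of x) = n (num x) := fun x => PresentedGroup.toGroup.of hrel
  obtain ⟨hsimp, hcard⟩ := CosetCert.Fi22Order.order_and_simple
  have : IsSimpleGroup Spor.Fi22 := hsimp
  have hinj : Function.Injective φ := by
    rw [← MonoidHom.ker_eq_bot_iff]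
    refine (φ.normal_ker.eq_bot_or_eq_top).resolve_right fun h => ?_
    refine ne_one hD.1 (hn.mem 0 (by norm_num)) ?_
    have h' : PresentedGroup.of Gen.a ∈ φ.ker := h ▸ Subgroup.mem_top _
    rwa [MonoidHom.mem_ker, hφ] at h'
  have hG : Nat.card G = Nat.card Spor.Fi22 := by
    rw [hcard, (primeData hD hcls h22).card]
  have hbij : Function.Bijective φ :=
    (Nat.bijective_iff_injective_and_card φ).2 ⟨hinj, hG.symm⟩
  exact ⟨MulEquiv.ofBijective φ hbij, fun x => by
    rw [MulEquiv.ofBijective_apply, hφ]; exact hn.mem _ (num_lt x)⟩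

end Cfsg.Agent.ThreeTrans.Y332
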