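import Cfsg.Agent.ThreeTrans.SixChain.Main

/-!
# A chain of six in a layer

The vectors of a chain of six form a basis in which the only nonzero products, all `1`, are those of
neighbours. A member is determined by the members of the chain that it moves, when it moves only one;
an element of the layer group centralising five neighbouring members acts as a scalar times a
transvection.
-/

set_option autoImplicit false

open Cfsg Cfsg.Agent.Classical Cfsg.Agent.Classical.Herm Module

namespace Cfsg.Agent.ThreeTrans.Y332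

open UModel

variable {G F : Type*} [Group G] [Field F] {θ : F →+* F}

/-- A normalised chain. -/
def IsChain (P : Fin 6 → Pt (hermB 6 θ)) : Prop :=
  ∀ i j, hermB 6 θ (P i).1 (P j).1 = if i.val + 1 = j.val ∨ j.val + 1 = i.val then 1 else 0

/-- The transvection with centre `u`. -/
noncomputable def trl (u : Pt (hermB 6 θ)) : (Fin 6 → F) →ₗ[F] (Fin 6 → F) :=
  LinearMap.id + (hermB 6 θ u.1).smulRight u.1

theorem trl_apply (u : Pt (hermB 6 θ)) (w : Fin 6 → F) :
    trl u w = w + hermB 6 θ u.1 w • u.1 := rfl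

/-- The product of transvections. -/
noncomputable def trs : List (Pt (hermB 6 θ)) → (Fin 6 → F) →ₗ[F] (Fin 6 → F)
  | [] => LinearMap.id
  | u :: l => (trl u).comp (trs l)

variable {E : Set G} {tp : Pt (hermB 6 θ) → G} (hB : Space (hermB 6 θ))
  (hM : Model (hermB 6 θ) E tp)

include hB

theorem trl_form (u : Pt (hermB 6 θ)) (v w : Fin 6 → F) :
    hermB 6 θ (trl u v) (trl u w) = hermB 6 θ v w := by
  have hs : hermB 6 θ v u.1 = θ (hermB 6 θ u.1 v) := (hB.herm.symm _ _).symm
  simp only [trl_apply, map_add, map_smul, LinearMap.map_smulₛₗ, LinearMap.add_apply,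
    LinearMap.smul_apply, smul_eq_mul, u.2.2, hs]
  linear_combination add_self' hB (θ (hermB 6 θ u.1 v) * hermB 6 θ u.1 w)

theorem trs_form (l : List (Pt (hermB 6 θ))) (v w : Fin 6 → F) :
    hermB 6 θ (trs l v) (trs l w) = hermB 6 θ v w := by
  induction l with
  | nil => rfl
  | cons u l ih => exact (trl_form hB u _ _).trans ih

theorem trs_ne_zero (l : List (Pt (hermB 6 θ))) {v : Fin 6 → F} (hv : v ≠ 0) : trs l v ≠ 0 := by
  intro h
  refine hv (hB.herm.nondeg v fun w => ?_)
  rw [← trs_form hB l v w, h, map_zero, LinearMap.zero_apply]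

/-- The image of a point. -/
noncomputable def trp (l : List (Pt (hermB 6 θ))) (v : Pt (hermB 6 θ)) : Pt (hermB 6 θ) :=
  ⟨trs l v.1, trs_ne_zero hB l v.2.1, by rw [trs_form hB, v.2.2]⟩

include hM

theorem trs_conj (hsq : ∀ e ∈ E, e * e = 1) (l : List (Pt (hermB 6 θ))) (v : Pt (hermB 6 θ)) :
    (l.map tp).prod * tp v * (l.map tp).prod⁻¹ = tp (trp hB l v) := by
  induction l with
  | nil => simpa using congrArg tp (Subtype.ext rfl : v = trp hB [] v)
  | cons u l ih =>
    have hu : (tp u)⁻¹ = tp u := inv_eq_of_mul_eq_one_right (hsq _ (tp_mem hM u))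
    rw [List.map_cons, List.prod_cons, mul_inv_rev, hu]
    calc tp u * (l.map tp).prod * tp v * ((l.map tp).prod⁻¹ * tp u)
        = tp u * ((l.map tp).prod * tp v * (l.map tp).prod⁻¹) * tp u := by simp only [mul_assoc]
      _ = tp (trp hB (u :: l) v) := by
        rw [ih]
        exact hM.conj u (trp hB l v) (trp hB (u :: l) v) rfl

omit hB in
theorem exists_list (hsq : ∀ e ∈ E, e * e = 1) {g : G} (hg : g ∈ Subgroup.closure E) :
    ∃ l : List (Pt (hermB 6 θ)), (l.map tp).prod = g := by
  induction hg using Subgroup.closure_induction_left with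
  | one => exact ⟨[], rfl⟩
  | mul_left x hx y _ ih =>
    obtain ⟨l, rfl⟩ := ih
    obtain ⟨u, rfl⟩ := exists_tp hM hx
    exact ⟨u :: l, rfl⟩
  | inv_mul_cancel x hx y _ ih =>
    obtain ⟨l, rfl⟩ := ih
    obtain ⟨u, rfl⟩ := exists_tp hM hx
    exact ⟨u :: l, by rw [inv_eq_of_mul_eq_one_right (hsq _ hx)]; rfl⟩

omit hM
variable {P : Fin 6 → Pt (hermB 6 θ)} (hP : IsChain P)

theorem exists_chain {E : Set G} {tp : Pt (hermB 6 θ) → G}
    (hM : Model (hermB 6 θ) E tp) {p : Fin 6 → G} (hp : ∀ i, p i ∈ E)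
    (hpp : ∀ i j, Commute (p i) (p j) ↔ ¬ (i.val + 1 = j.val ∨ j.val + 1 = i.val)) :
    ∃ P : Fin 6 → Pt (hermB 6 θ), IsChain P ∧ ∀ i, tp (P i) = p i := by
  have hscale : ∀ (x : Pt (hermB 6 θ)) (i : Fin 6), ¬ Commute (tp x) (p i) →
      ∃ v, tp v = p i ∧ hermB 6 θ x.1 v.1 = 1 := by
    intro x i hnc
    obtain ⟨w, hw⟩ := exists_tp hM (hp i)
    have hne : hermB 6 θ x.1 w.1 ≠ 0 := fun e => hnc (hw ▸ (hM.comm_iff x w).2 e)
    refine ⟨⟨(hermB 6 θ x.1 w.1)⁻¹ • w.1, smul_ne_zero (inv_ne_zero hne) w.2.1, by simp [w.2.2]⟩,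
      (tp_smul hB hM w _ rfl).trans hw, ?_⟩
    show hermB 6 θ x.1 ((hermB 6 θ x.1 w.1)⁻¹ • w.1) = 1
    rw [map_smul, smul_eq_mul, inv_mul_cancel₀ hne]
  have hnc : ∀ i j : Fin 6, i.val + 1 = j.val → ∀ x, tp x = p i → ¬ Commute (tp x) (p j) :=
    fun i j h x e c => (hpp i j).1 (e ▸ c) (Or.inl h)
  obtain ⟨v0, t0⟩ := exists_tp hM (hp 0)
  obtain ⟨v1, t1, m1⟩ := hscale v0 1 (hnc 0 1 rfl v0 t0)
  obtain ⟨v2, t2, m2⟩ := hscale v1 2 (hnc 1 2 rfl v1 t1)
  obtain ⟨v3, t3, m3⟩ := hscale v2 3 (hnc 2 3 rfl v2 t2)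
  obtain ⟨v4, t4, m4⟩ := hscale v3 4 (hnc 3 4 rfl v3 t3)
  obtain ⟨v5, t5, m5⟩ := hscale v4 5 (hnc 4 5 rfl v4 t4)
  have ht : ∀ i, tp (![v0, v1, v2, v3, v4, v5] i) = p i := by
    intro i; fin_cases i <;> assumption
  refine ⟨![v0, v1, v2, v3, v4, v5], fun i j => ?_, ht⟩
  have hnext : ∀ i j : Fin 6, i.val + 1 = j.val →
      hermB 6 θ (![v0, v1, v2, v3, v4, v5] i).1 (![v0, v1, v2, v3, v4, v5] j).1 = 1 := by
    intro i j h
    fin_cases i <;> fin_cases j <;>
      first
        | exact m1
        | exact m2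
        | exact m3
        | exact m4
        | exact m5
        | simp at h
  split_ifs with h
  · rcases h with h | h
    · exact hnext i j h
    · exact symm_one hB (hnext j i h)
  · exact (hM.comm_iff _ _).1 (by rw [ht, ht]; exact (hpp i j).2 h)

include hP

/-- The chain is a basis. -/
theorem span_chain : Submodule.span F (Set.range fun i => (P i).1) = ⊤ := by
  have hlin : LinearIndependent F fun i => (P i).1 := by
    rw [Fintype.linearIndependent_iff]
    intro g hg
    have e : ∀ j : Fin 6, ∑ i, g i * (if j.val + 1 = i.val ∨ i.val + 1 = j.val then (1 : F) else 0) = 0 := by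
      intro j
      have := congrArg (hermB 6 θ (P j).1) hg
      rw [map_sum, map_zero] at this
      refine Eq.trans (Finset.sum_congr rfl fun i _ => ?_) this
      rw [map_smul, smul_eq_mul, hP j i]
    have e0 := e 0; have e1 := e 1; have e2 := e 2; have e3 := e 3; have e4 := e 4; have e5 := e 5
    simp [Fin.sum_univ_six] at e0 e1 e2 e3 e4 e5
    have g4 : g 4 = 0 := e5
    have g1 : g 1 = 0 := e0
    have g2 : g 2 = 0 := by rw [g4, add_zero] at e3; exact e3
    have g0 : g 0 = 0 := by rw [g2, add_zero] at e1; exact e1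
    have g3 : g 3 = 0 := by rw [g1, zero_add] at e2; exact e2
    have g5 : g 5 = 0 := by rw [g3, zero_add] at e4; exact e4
    intro i
    fin_cases i <;> assumption
  exact hlin.span_eq_top_of_card_eq_finrank (by rw [Fintype.card_fin, hB.rank])

/-- A vector with the same products with the chain is the same vector. -/
theorem ext_chain {X Y : Fin 6 → F} (h : ∀ j, hermB 6 θ (P j).1 X = hermB 6 θ (P j).1 Y) : X = Y := by
  refine sub_eq_zero.1 (hB.herm.nondeg _ fun y => ?_)
  rw [← hB.herm.symm]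
  have : hermB 6 θ y (X - Y) = 0 := by
    have hy : y ∈ Submodule.span F (Set.range fun i => (P i).1) := by rw [span_chain hB hP]; trivial
    induction hy using Submodule.span_induction with
    | mem v hv => obtain ⟨j, rfl⟩ := hv; rw [map_sub, h j, sub_self]
    | zero => simp
    | add v w _ _ hv hw => simp [hv, hw]
    | smul c v _ hv => simp [hv]
  rw [this, map_zero]

/-- The point moved only by the first member of the chain. -/
noncomputable def k0 (P : Fin 6 → Pt (hermB 6 θ)) : Fin 6 → F := (P 1).1 + (P 3).1 + (P 5).1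

/-- The point moved only by the third member of the chain. -/
noncomputable def k2 (P : Fin 6 → Pt (hermB 6 θ)) : Fin 6 → F := (P 3).1 + (P 5).1

theorem form_k0 (j : Fin 6) : hermB 6 θ (P j).1 (k0 P) = if j = 0 then 1 else 0 := by
  fin_cases j <;> simp [k0, hP _ _, two hB]

theorem form_k2 (j : Fin 6) : hermB 6 θ (P j).1 (k2 P) = if j = 2 then 1 else 0 := by
  fin_cases j <;> simp [k2, hP _ _, two hB]

/-- The point moved only by the first member, as a point. -/
theorem exists_k0 : ∃ K : Pt (hermB 6 θ), K.1 = k0 P := by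
  refine ⟨⟨k0 P, fun e => ?_, ?_⟩, rfl⟩
  · have := form_k0 hB hP 0
    rw [e, map_zero] at this
    simp at this
  · simp [k0, hP _ _]

theorem exists_k2 : ∃ K : Pt (hermB 6 θ), K.1 = k2 P := by
  refine ⟨⟨k2 P, fun e => ?_, ?_⟩, rfl⟩
  · have := form_k2 hB hP 2
    rw [e, map_zero] at this
    simp at this
  · simp [k2, hP _ _]

/-- A member moving one member of the chain is determined by it. -/
theorem eq_tp {E : Set G} {tp : Pt (hermB 6 θ) → G} (hM : Model (hermB 6 θ) E tp) {y : G}
    (hy : y ∈ E) {j : Fin 6} (hyj : ∀ i, Commute y (tp (P i)) ↔ i ≠ j) (K : Pt (hermB 6 θ))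
    (hK : ∀ i, hermB 6 θ (P i).1 K.1 = if i = j then 1 else 0) : y = tp K := by
  obtain ⟨Y, rfl⟩ := exists_tp hM hy
  refine tp_smul hB hM K Y (k := hermB 6 θ (P j).1 Y.1) (ext_chain hB hP fun i => ?_)
  rw [map_smul, smul_eq_mul, hK]
  split_ifs with h
  · rw [h, mul_one]
  · rw [mul_zero, ← symm_zero hB, ← hM.comm_iff]
    exact (hyj i).2 h

/-- A product of transvections fixing five neighbours is, up to a scalar, a power of a transvection. -/
theorem acts_trivially (hsq : ∀ e ∈ E, e * e = 1) (hM : Model (hermB 6 θ) E tp) {g : G}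
    (hg : g ∈ Subgroup.closure E) (h3 : g * g * g = 1)
    (hfix : ∀ j : Fin 6, j ≠ 0 → Commute g (tp (P j))) : ∀ e ∈ E, Commute g e := by
  obtain ⟨l, rfl⟩ := exists_list hM hsq hg
  set M := trs l with hMdef
  have hfx : ∀ j : Fin 6, j ≠ 0 → ∃ c : F, c ≠ 0 ∧ M (P j).1 = c • (P j).1 := by
    intro j hj
    have h := trs_conj hB hM hsq l (P j)
    rw [(hfix j hj).eq, mul_inv_cancel_right] at h
    obtain ⟨c, hc⟩ := (hM.eq_iff _ _).1 h
    exact ⟨c, fun e => (trp hB l (P j)).2.1 (by rw [hc, e, zero_smul]), hc⟩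
  choose! c hc0 hc using hfx
  have hstep : ∀ j k : Fin 6, j ≠ 0 → k ≠ 0 → j.val + 1 = k.val → c k = c j := by
    intro j k hj hk hjk
    have h := trs_form hB l (P j).1 (P k).1
    rw [← hMdef, hc j hj, hc k hk] at h
    simp only [map_smul, LinearMap.map_smulₛₗ, LinearMap.smul_apply, smul_eq_mul,
      hP j k, if_pos (Or.inl hjk), mul_one] at h
    have := norm_one hB (hc0 j hj)
    linear_combination c j * h - c k * this
  have e2 := hstep 1 2 (by decide) (by decide) rfl
  have e3 := hstep 2 3 (by decide) (by decide) rfl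
  have e4 := hstep 3 4 (by decide) (by decide) rfl
  have e5 := hstep 4 5 (by decide) (by decide) rfl
  set s := c 1 with hs
  have hall : ∀ j : Fin 6, j ≠ 0 → M (P j).1 = s • (P j).1 := by
    intro j hj
    rw [hc j hj]
    congr 1
    fin_cases j <;> simp_all
  have hs0 : s ≠ 0 := hc0 1 (by decide)
  have hK : M (k0 P) = s • k0 P := by
    simp [k0, map_add, hall, smul_add]
  set ν := hermB 6 θ (P 0).1 (M (P 0).1 - s • (P 0).1) with hν
  have hP0 : M (P 0).1 = s • (P 0).1 + ν • k0 P := by
    refine sub_eq_iff_eq_add'.1 (ext_chain hB hP fun j => ?_)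
    rw [map_smul (hermB 6 θ (P j).1), smul_eq_mul, form_k0 hB hP]
    split_ifs with hj
    · rw [hj, mul_one]
    · rw [mul_zero, map_sub, map_smul, smul_eq_mul]
      have h := trs_form hB l (P j).1 (P 0).1
      rw [← hMdef, hall j hj, LinearMap.map_smulₛₗ, LinearMap.smul_apply, smul_eq_mul] at h
      have := norm_one hB hs0
      linear_combination s * h - hermB 6 θ (P j).1 (M (P 0).1) * this
  have h30 := trs_conj hB hM hsq (l ++ l ++ l) (P 0)
  rw [List.map_append, List.map_append, List.prod_append, List.prod_append, h3, one_mul, inv_one,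
    mul_one] at h30
  obtain ⟨d, hd⟩ := (hM.eq_iff _ _).1 h30
  have happ : ∀ a b : List (Pt (hermB 6 θ)), trs (a ++ b) = (trs a).comp (trs b) := by
    intro a b
    induction a with
    | nil => rfl
    | cons u a ih => rw [List.cons_append, trs, trs, ih, LinearMap.comp_assoc]
  have hd' : M (M (M (P 0).1)) = d • (P 0).1 := by
    rw [← hd]
    show _ = trs (l ++ l ++ l) (P 0).1
    rw [happ, happ]
    rfl
  rw [hP0] at hd'
  simp only [map_add, map_smul, hP0, hK] at hd'
  have hν0 : ν = 0 := by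
    have h := congrArg (hermB 6 θ (P 0).1) hd'
    simp only [map_add, map_smul, smul_eq_mul, (P 0).2.2, form_k0 hB hP, if_pos] at h
    refine (mul_eq_zero.1 (?_ : s * s * ν = 0)).resolve_left (mul_ne_zero hs0 hs0)
    linear_combination h - (s * s * ν) * two hB
  have hid : ∀ X, M X = s • X := fun X => by
    have h : M = s • LinearMap.id := LinearMap.ext_on (span_chain hB hP) (by
      rintro - ⟨j, rfl⟩
      by_cases hj : j = 0
      · subst hj; simp [hP0, hν0]
      · simpa using hall j hj)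
    simp [h]
  intro e he
  obtain ⟨v, rfl⟩ := exists_tp hM he
  have h := trs_conj hB hM hsq l v
  rw [tp_smul hB hM v (trp hB l v) (hid v.1), mul_inv_eq_iff_eq_mul] at h
  exact h

end Cfsg.Agent.ThreeTrans.Y332
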