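import Cfsg.Agent.ThreeTrans.Y332.Layer

/-!
# The fifth power of a product of six transvections

In coordinates for a normalised chain of six over two elements, the fifth power of the product of the
transvections at `P₃+P₅, P₂, P₃, P₄, P₅, P₁` is the transvection at `P₁+P₃+P₅`.
-/

set_option autoImplicit false

open Cfsg Cfsg.Agent.Classical Cfsg.Agent.Classical.Herm Module

namespace Cfsg.Agent.ThreeTrans.Y332

/-- Six coordinates over two elements. -/
structure B6 where
  x0 : Bool
  x1 : Bool
  x2 : Bool
  x3 : Bool
  x4 : Bool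
  x5 : Bool
  deriving DecidableEq

namespace B6

/-- Sum. -/
def add (u v : B6) : B6 :=
  ⟨u.x0 ^^ v.x0, u.x1 ^^ v.x1, u.x2 ^^ v.x2, u.x3 ^^ v.x3, u.x4 ^^ v.x4, u.x5 ^^ v.x5⟩

/-- Product. -/
def form (u v : B6) : Bool :=
  (u.x0 && v.x1) ^^ (u.x1 && (v.x0 ^^ v.x2)) ^^ (u.x2 && (v.x1 ^^ v.x3)) ^^
    (u.x3 && (v.x2 ^^ v.x4)) ^^ (u.x4 && (v.x3 ^^ v.x5)) ^^ (u.x5 && v.x4)

/-- Transvection. -/
def tr (u w : B6) : B6 :=
  match form u w with
  | true => add w u
  | false => w

/-- Product of transvections. -/
def trs : List B6 → B6 → B6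
  | [], w => w
  | u :: l, w => tr u (trs l w)

/-- The points of `c d e f g h` in coordinates, five times over. -/
def word : List B6 :=
  (List.replicate 5
    [(⟨false, false, false, true, false, true⟩ : B6), ⟨false, false, true, false, false, false⟩,
      ⟨false, false, false, true, false, false⟩, ⟨false, false, false, false, true, false⟩,
      ⟨false, false, false, false, false, true⟩, ⟨false, true, false, false, false, false⟩]).flatten

/-- The point of `r` in coordinates. -/
def kz : B6 := ⟨false, true, false, true, false, true⟩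

/-- The members of the chain. -/
def unit : Fin 6 → B6 := fun j =>
  ⟨j == 0, j == 1, j == 2, j == 3, j == 4, j == 5⟩

theorem check : ∀ j : Fin 6, trs word (unit j) = tr kz (unit j) := by decide +kernel

end B6

open UModel

variable {G F : Type*} [Group G] [Field F] {θ : F →+* F}

/-- A bit as a scalar. -/
def bit (b : Bool) : F := if b then 1 else 0

/-- The vector with given coordinates. -/
noncomputable def B6.vec (P : Fin 6 → Pt (hermB 6 θ)) (u : B6) : Fin 6 → F :=
  (bit u.x0 : F) • (P 0).1 + (bit u.x1 : F) • (P 1).1 + (bit u.x2 : F) • (P 2).1 +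
    (bit u.x3 : F) • (P 3).1 + (bit u.x4 : F) • (P 4).1 + (bit u.x5 : F) • (P 5).1

variable (hB : Space (hermB 6 θ)) {P : Fin 6 → Pt (hermB 6 θ)} (hP : IsChain P)
include hB hP

omit hP in
theorem bit_xor (a b : Bool) : (bit (a ^^ b) : F) = bit a + bit b := by
  cases a <;> cases b <;> simp [bit, two hB]

omit hP in
theorem vec_add (u v : B6) : B6.vec P (u.add v) = B6.vec P u + B6.vec P v := by
  simp only [B6.vec, B6.add, bit_xor hB, add_smul]
  abel

theorem vec_form (u v : B6) : hermB 6 θ (B6.vec P u) (B6.vec P v) = bit (u.form v) := by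
  have hθ : ∀ a : Bool, θ (bit a) = bit a := by intro a; cases a <;> simp [bit]
  have hand : ∀ a b : Bool, (bit (a && b) : F) = bit a * bit b := by
    intro a b; cases a <;> cases b <;> simp [bit]
  simp only [B6.vec, B6.form, map_add, map_smul, LinearMap.map_smulₛₗ, LinearMap.add_apply,
    LinearMap.smul_apply, smul_eq_mul, hθ, hP _ _, bit_xor hB, hand]
  simp
  ring

theorem vec_tr (u w : B6) (U : Pt (hermB 6 θ)) (hU : U.1 = B6.vec P u) :
    trl U (B6.vec P w) = B6.vec P (B6.tr u w) := by
  rw [trl_apply, hU, vec_form hB hP, B6.tr]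
  cases u.form w <;> simp [bit, vec_add hB]

theorem vec_trs : ∀ (l : List B6) (L : List (Pt (hermB 6 θ))),
    List.Forall₂ (fun u U => U.1 = B6.vec P u) l L → ∀ w,
      trs L (B6.vec P w) = B6.vec P (B6.trs l w)
  | _, _, .nil, w => rfl
  | _, _, .cons (a := u) (b := U) (l₁ := l) (l₂ := L) h hs, w => by
    show trl U (trs L (B6.vec P w)) = _
    rw [vec_trs l L hs w, vec_tr hB hP u _ U h]
    rfl

/-- The fifth power of the product of the six transvections is the transvection at `P₁+P₃+P₅`. -/
theorem trs_five (K0 K2 : Pt (hermB 6 θ)) (h0 : K0.1 = k0 P) (h2 : K2.1 = k2 P) :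
    trs (List.replicate 5 [K2, P 2, P 3, P 4, P 5, P 1]).flatten = trl K0 := by
  have hunit : ∀ j, B6.vec P (B6.unit j) = (P j).1 := by
    intro j; fin_cases j <;> simp [B6.vec, B6.unit, bit]
  have hlist : List.Forall₂ (fun u U => (U : Pt (hermB 6 θ)).1 = B6.vec P u)
      [(⟨false, false, false, true, false, true⟩ : B6), ⟨false, false, true, false, false, false⟩,
        ⟨false, false, false, true, false, false⟩, ⟨false, false, false, false, true, false⟩,
        ⟨false, false, false, false, false, true⟩, ⟨false, true, false, false, false, false⟩]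
      [K2, P 2, P 3, P 4, P 5, P 1] := by
    simp [B6.vec, bit, h2, k2]
  have hrep : ∀ n, List.Forall₂ (fun u U => (U : Pt (hermB 6 θ)).1 = B6.vec P u)
      (List.replicate n [(⟨false, false, false, true, false, true⟩ : B6),
        ⟨false, false, true, false, false, false⟩, ⟨false, false, false, true, false, false⟩,
        ⟨false, false, false, false, true, false⟩, ⟨false, false, false, false, false, true⟩,
        ⟨false, true, false, false, false, false⟩]).flatten
      (List.replicate n [K2, P 2, P 3, P 4, P 5, P 1]).flatten := by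
    intro n
    induction n with
    | zero => simp
    | succ n ih =>
      rw [List.replicate_succ, List.replicate_succ, List.flatten_cons, List.flatten_cons]
      exact List.rel_append hlist ih
  have hL := hrep 5
  generalize (List.replicate 5 [K2, P 2, P 3, P 4, P 5, P 1]).flatten = L at hL ⊢
  refine LinearMap.ext_on (span_chain hB hP) ?_
  rintro - ⟨j, rfl⟩
  show trs L (P j).1 = trl K0 (P j).1
  rw [← hunit j, vec_trs hB hP B6.word L hL, B6.check j,
    vec_tr hB hP B6.kz _ K0 (by simp [h0, k0, B6.vec, B6.kz, bit])]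

end Cfsg.Agent.ThreeTrans.Y332
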