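import Mathlib

/-!
# Words in the Coxeter generators of the graph with arms of lengths three, three and two

A certificate is a list of moves rewriting one word into another by the Coxeter relations. The
generators `a, …, i` are numbered `0, …, 8`.
-/

set_option autoImplicit false

namespace Cfsg.Agent.ThreeTrans.Y332

/-- The edges. -/
def adj : ℕ → ℕ → Bool
  | 0, 1 | 1, 0 | 1, 2 | 2, 1 | 2, 3 | 3, 2 | 3, 4 | 4, 3 => true
  | 3, 7 | 7, 3 | 4, 5 | 5, 4 | 5, 6 | 6, 5 | 7, 8 | 8, 7 => true
  | _, _ => false

/-- The move of kind `k` at the head of a word. -/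
def atHead : ℕ → List ℕ → Option (List ℕ)
  | 0, s :: t :: w => if s == t then some w else none
  | 1, s :: t :: w => if (s == t || adj s t) then none else some (t :: s :: w)
  | 2, s :: t :: u :: w => if (adj s t && s == u) then some (t :: s :: t :: w) else none
  | _, _ => none

/-- The move of kind `k` at position `p`. -/
def atPos (k : ℕ) : ℕ → List ℕ → Option (List ℕ)
  | 0, w => atHead k w
  | _ + 1, [] => none
  | p + 1, x :: w => (atPos k p w).map (x :: ·)

/-- A list of moves, the move of kind `k` at `p` coded by `3 * p + k`. -/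
def moves : List ℕ → List ℕ → Option (List ℕ)
  | [], w => some w
  | c :: cs, w => (atPos (c % 3) (c / 3) w).bind (moves cs)

/-- Several lists of moves. -/
def runs : List (List ℕ) → List ℕ → Option (List ℕ)
  | [], w => some w
  | l :: ls, w => (moves l w).bind (runs ls)

/-- Both words can be rewritten into the third. -/
def equiv (p q : List (List ℕ)) (u v t : List ℕ) : Bool :=
  u.all (· < 9) && v.all (· < 9) && runs p u == some t && runs q v == some t

variable {G : Type*} [Group G]

/-- The value of a word. -/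
def ev (n : ℕ → G) (w : List ℕ) : G := (w.map n).prod

@[simp] theorem ev_nil (n : ℕ → G) : ev n [] = 1 := rfl

@[simp] theorem ev_cons (n : ℕ → G) (x : ℕ) (w : List ℕ) : ev n (x :: w) = n x * ev n w :=
  List.prod_cons

@[simp] theorem ev_append (n : ℕ → G) (u v : List ℕ) : ev n (u ++ v) = ev n u * ev n v := by
  simp [ev]

/-- Involutions with the relations of the graph. -/
structure Rels (n : ℕ → G) : Prop where
  sq : ∀ x < 9, n x * n x = 1
  braid : ∀ x < 9, ∀ y < 9, adj x y = true → n x * n y * n x = n y * n x * n y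
  comm : ∀ x < 9, ∀ y < 9, adj x y = false → Commute (n x) (n y)

variable {n : ℕ → G} (h : Rels n)
include h

theorem atHead_sound {k : ℕ} {w w' : List ℕ} (hw : ∀ x ∈ w, x < 9) (e : atHead k w = some w') :
    ev n w' = ev n w ∧ ∀ x ∈ w', x < 9 := by
  unfold atHead at e
  split at e
  · split at e
    · rename_i s t w hst
      obtain rfl := eq_of_beq hst
      cases e
      simp only [List.mem_cons, forall_eq_or_imp] at hw
      exact ⟨by rw [ev_cons, ev_cons, ← mul_assoc, h.sq _ hw.1, one_mul], hw.2.2⟩
    · exact absurd e (by simp)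
  · split at e
    · exact absurd e (by simp)
    · rename_i s t w hst
      cases e
      simp only [List.mem_cons, forall_eq_or_imp] at hw ⊢
      simp only [Bool.or_eq_true, not_or, Bool.not_eq_true, beq_iff_eq] at hst
      refine ⟨?_, hw.2.1, hw.1, hw.2.2⟩
      simp only [ev_cons, ← mul_assoc, (h.comm s hw.1 t hw.2.1 hst.2).eq]
  · split at e
    · rename_i s t u w hst
      cases e
      simp only [Bool.and_eq_true, beq_iff_eq] at hst
      obtain ⟨hadj, rfl⟩ := hst
      simp only [List.mem_cons, forall_eq_or_imp] at hw ⊢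
      refine ⟨?_, hw.2.1, hw.1, hw.2.1, hw.2.2.2⟩
      simp only [ev_cons, ← mul_assoc, h.braid s hw.1 t hw.2.1 hadj]
    · exact absurd e (by simp)
  · exact absurd e (by simp)

theorem atPos_sound {k p : ℕ} {w w' : List ℕ} (hw : ∀ x ∈ w, x < 9) (e : atPos k p w = some w') :
    ev n w' = ev n w ∧ ∀ x ∈ w', x < 9 := by
  induction w generalizing p w' with
  | nil =>
    cases p with
    | zero => exact atHead_sound h hw e
    | succ p => simp [atPos] at e
  | cons y w ih =>
    cases p with
    | zero => exact atHead_sound h hw e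
    | succ p =>
      obtain ⟨v, hv, rfl⟩ := Option.map_eq_some_iff.1 e
      simp only [List.mem_cons, forall_eq_or_imp] at hw ⊢
      obtain ⟨e1, e2⟩ := ih hw.2 hv
      exact ⟨by simp [e1], hw.1, e2⟩

theorem moves_sound {cs w w' : List ℕ} (hw : ∀ x ∈ w, x < 9) (e : moves cs w = some w') :
    ev n w' = ev n w ∧ ∀ x ∈ w', x < 9 := by
  induction cs generalizing w with
  | nil =>
    cases e
    exact ⟨rfl, hw⟩
  | cons c cs ih =>
    obtain ⟨v, hv, hv'⟩ := Option.bind_eq_some_iff.1 e
    obtain ⟨e1, e2⟩ := atPos_sound h hw hv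
    obtain ⟨e3, e4⟩ := ih e2 hv'
    exact ⟨e3.trans e1, e4⟩

theorem runs_sound {ls : List (List ℕ)} {w w' : List ℕ} (hw : ∀ x ∈ w, x < 9)
    (e : runs ls w = some w') : ev n w' = ev n w ∧ ∀ x ∈ w', x < 9 := by
  induction ls generalizing w with
  | nil =>
    cases e
    exact ⟨rfl, hw⟩
  | cons c cs ih =>
    obtain ⟨v, hv, hv'⟩ := Option.bind_eq_some_iff.1 e
    obtain ⟨e1, e2⟩ := moves_sound h hw hv
    obtain ⟨e3, e4⟩ := ih e2 hv'
    exact ⟨e3.trans e1, e4⟩

/-- Certified words have one value. -/
theorem ev_eq {p q : List (List ℕ)} {u v t : List ℕ} (e : equiv p q u v t = true) :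
    ev n u = ev n v := by
  simp only [equiv, Bool.and_eq_true, beq_iff_eq, List.all_eq_true, decide_eq_true_eq] at e
  obtain ⟨⟨⟨hu, hv⟩, ep⟩, eq'⟩ := e
  exact ((runs_sound h hu ep).1).symm.trans (runs_sound h hv eq').1

end Cfsg.Agent.ThreeTrans.Y332
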